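import Groth.Agent.AwayTrivial.Split
import Groth.Agent.FlatCxBase.BaseChange
import Groth.Agent.Limits.BC0.RankAlg
import Mathlib.RingTheory.Localization.BaseChange

/-!
Trivial complexes of projective modules become sums of free trivial complexes near a prime.
-/

set_option autoImplicit false
set_option linter.style.haveILetI false

universe u

open CategoryTheory CategoryTheory.Limits HomologicalComplex
open scoped TensorProduct

attribute [local instance] HasDerivedCategory.standard

namespace Groth.Agent.AwayTrivial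

variable {R : Type u} [CommRing R]

local notation "up" => ComplexShape.up ℤ

lemma free_away_of_dvd {f g : R} (h : f ∣ g) (N : Type u) [AddCommGroup N] [Module R N]
    [Module.Free (Localization.Away f) (Localization.Away f ⊗[R] N)] :
    Module.Free (Localization.Away g) (Localization.Away g ⊗[R] N) := by
  let φ : Localization.Away f →+* Localization.Away g :=
    IsLocalization.Away.lift f (g := algebraMap R (Localization.Away g))
      (IsLocalization.Away.isUnit_of_dvd g h)
  letI := φ.toAlgebra
  haveI : IsScalarTower R (Localization.Away f) (Localization.Away g) :=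
    IsScalarTower.of_algebraMap_eq fun x =>
      (IsLocalization.Away.lift_eq f (IsLocalization.Away.isUnit_of_dvd g h) x).symm
  exact Module.Free.of_equiv (TensorProduct.AlgebraTensorModule.cancelBaseChange R (Localization.Away f)
    (Localization.Away g) (Localization.Away g) N)

/-- Finitely many finite projective modules become free near a prime. -/
theorem exists_free (p : Ideal R) [p.IsPrime] {ι : Type*} (X : ι → ModuleCat.{u} R) (s : Finset ι)
    (hX : ∀ i ∈ s, Module.Finite R (X i) ∧ Module.Projective R (X i)) :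
    ∃ f ∉ p, ∀ i ∈ s, Module.Free (Localization.Away f) (Localization.Away f ⊗[R] X i) := by
  classical
  induction s using Finset.induction_on with
  | empty => exact ⟨1, p.one_notMem, by simp⟩
  | insert a s _ ih =>
    obtain ⟨f₁, hf₁, h₁⟩ := ih fun i hi => hX i (Finset.mem_insert_of_mem hi)
    have := (hX a (Finset.mem_insert_self a s)).1
    have := (hX a (Finset.mem_insert_self a s)).2
    have : Module.FinitePresentation R (X a) := Module.finitePresentation_of_projective R _
    obtain ⟨f₂, hf₂, hfree, -⟩ :=
      Groth.Limits.BC0.exists_free_away (N := X a) (⟨p, inferInstance⟩ : PrimeSpectrum R)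
    have : Module.Free (Localization.Away f₂) (Localization.Away f₂ ⊗[R] X a) :=
      Module.Free.of_equiv (LocalizedModule.equivTensorProduct (Submonoid.powers f₂) (X a))
    refine ⟨f₁ * f₂, fun h => (‹p.IsPrime›.mem_or_mem h).elim hf₁ hf₂, fun i hi => ?_⟩
    rcases Finset.mem_insert.1 hi with rfl | hi
    · exact free_away_of_dvd (dvd_mul_left f₂ f₁) (X i)
    · have := h₁ i hi
      exact free_away_of_dvd (dvd_mul_right f₁ f₂) (X i)

/-- The boundary module. -/
abbrev bd (C : DRing.Cx R) (i : ℤ) : ModuleCat.{u} R :=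
  ModuleCat.of R (LinearMap.range (C.d i (i + 1)).hom)

variable {C : DRing.Cx R}

/-- The differential of a contractible complex factors through the boundary by split maps. -/
lemma exists_split_d (hC : Nonempty (Homotopy (𝟙 C) 0)) (i : ℤ) :
    ∃ (π : C.X i ⟶ bd C i) (s : bd C i ⟶ C.X i) (j : bd C i ⟶ C.X (i + 1))
      (q : C.X (i + 1) ⟶ bd C i),
      C.d i (i + 1) = π ≫ j ∧ s ≫ π = 𝟙 _ ∧ j ≫ q = 𝟙 _ := by
  obtain ⟨h⟩ := hC
  have hh : ∀ y : C.X i, C.d i (i + 1) (h.hom (i + 1) i (C.d i (i + 1) y)) = C.d i (i + 1) y := by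
    intro y
    have e := h.comm (i + 1)
    rw [dNext_eq h.hom (show (up).Rel (i + 1) (i + 1 + 1) by simp),
      prevD_eq h.hom (show (up).Rel i (i + 1) by simp)] at e
    have e' := ConcreteCategory.congr_hom (congrArg (fun t => C.d i (i + 1) ≫ t) e) y
    simpa using e'.symm
  refine ⟨ModuleCat.ofHom (C.d i (i + 1)).hom.rangeRestrict,
    ModuleCat.ofHom ((h.hom (i + 1) i).hom ∘ₗ (LinearMap.range (C.d i (i + 1)).hom).subtype),
    ModuleCat.ofHom (LinearMap.range (C.d i (i + 1)).hom).subtype,
    ModuleCat.ofHom ((C.d i (i + 1)).hom.rangeRestrict ∘ₗ (h.hom (i + 1) i).hom), rfl, ?_, ?_⟩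
  · refine ModuleCat.hom_ext (LinearMap.ext ?_)
    rintro ⟨_, y, rfl⟩
    exact Subtype.ext (hh y)
  · refine ModuleCat.hom_ext (LinearMap.ext ?_)
    rintro ⟨_, y, rfl⟩
    exact Subtype.ext (hh y)

lemma bd_finite_projective (hC : Trivial C) (i : ℤ) :
    Module.Finite R (bd C i) ∧ Module.Projective R (bd C i) := by
  obtain ⟨π, s, -, -, -, h, -⟩ := exists_split_d hC.null i
  have := (hC.proj i).1
  have := (hC.proj i).2
  have hr : Function.RightInverse s π := fun x => ConcreteCategory.congr_hom h x
  exact ⟨Module.Finite.of_surjective π.hom hr.surjective,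
    Module.Projective.of_split s.hom π.hom (LinearMap.ext hr)⟩

/-- Extension of scalars of a trivial complex with free pieces is trivial and free. -/
theorem ext_free {S : Type u} [CommRing S] [Algebra R S] (hC : Trivial C)
    (hX : ∀ i, Module.Free S (S ⊗[R] C.X i)) (hB : ∀ i, Module.Free S (S ⊗[R] bd C i)) :
    let C' := ((ModuleCat.extendScalars (algebraMap R S)).mapHomologicalComplex up).obj C
    (∃ a' b' : ℤ, DRing.VanishesOutside C' a' b') ∧ DRing.TermwiseFiniteFree C' ∧
      (∀ i : ℤ, Module.Free S (LinearMap.range (C'.d i (i + 1)).hom)) ∧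
        Nonempty (Homotopy (𝟙 C') 0) := by
  obtain ⟨a, b, hab⟩ := hC.bdd
  let F := ModuleCat.extendScalars (algebraMap R S)
  refine ⟨⟨a, b, fun i hi => F.map_isZero (hab i hi)⟩, fun i => ⟨?_, ?_⟩, fun i => ?_, ?_⟩
  · have := (hC.proj i).1
    exact Module.Finite.equiv (Groth.FlatCxBase.extendEquiv S (C.X i)).symm
  · exact Module.Free.of_equiv (Groth.FlatCxBase.extendEquiv S (C.X i)).symm
  · obtain ⟨π, s, j, q, hd, hs, hq⟩ := exists_split_d hC.null i
    have hπ : Function.Surjective (F.map π) := Function.RightInverse.surjective (g := F.map s) fun x =>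
      ConcreteCategory.congr_hom
        ((F.map_comp s π).symm.trans ((congrArg F.map hs).trans (F.map_id _))) x
    have hj : Function.Injective (F.map j) := Function.LeftInverse.injective (g := F.map q) fun x =>
      ConcreteCategory.congr_hom
        ((F.map_comp j q).symm.trans ((congrArg F.map hq).trans (F.map_id _))) x
    let l : F.obj (bd C i) →ₗ[S] ((F.mapHomologicalComplex up).obj C).X (i + 1) := (F.map j).hom
    have e : LinearMap.range ((((F.mapHomologicalComplex up).obj C).d i (i + 1))).hom =
        LinearMap.range l := by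
      change LinearMap.range (F.map (C.d i (i + 1))).hom = LinearMap.range (F.map j).hom
      rw [hd, F.map_comp]
      exact LinearMap.range_comp_of_range_eq_top (F.map j).hom (LinearMap.range_eq_top.2 hπ)
    have := hB i
    haveI : Module.Free S (F.obj (bd C i)) :=
      Module.Free.of_equiv (Groth.FlatCxBase.extendEquiv S (bd C i)).symm
    exact Module.Free.of_equiv ((LinearEquiv.ofInjective l hj).trans (LinearEquiv.ofEq _ _ e.symm))
  · obtain ⟨h⟩ := hC.null
    exact ⟨((Homotopy.ofEq ((F.mapHomologicalComplex up).map_id C).symm).trans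
      (F.mapHomotopy h)).trans (Homotopy.ofEq ((F.mapHomologicalComplex up).map_zero C C))⟩

/-- The terms and boundaries of a bounded complex vanish outside a finite range. -/
lemma free_outside {S : Type u} [CommRing S] [Algebra R S] {a b i : ℤ}
    (hC : DRing.VanishesOutside C a b) (hi : i < a ∨ b < i) :
    Module.Free S (S ⊗[R] C.X i) ∧ Module.Free S (S ⊗[R] bd C i) := by
  have := ModuleCat.subsingleton_of_isZero (hC i hi)
  have : Subsingleton (bd C i) := ⟨fun ⟨x, u, hu⟩ ⟨y, v, hv⟩ => Subtype.ext (by
    subst hu hv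
    rw [Subsingleton.elim u v])⟩
  exact ⟨Module.Free.of_subsingleton S _, Module.Free.of_subsingleton S _⟩

/-- Near a prime the trivial complexes can be taken free. -/
theorem exists_away_iso (p : Ideal R) [p.IsPrime] (M N : DRing.Cx R) (a b : ℤ)
    (hM : DRing.VanishesOutside M a b) (hN : DRing.VanishesOutside N a b)
    (hMp : DRing.TermwiseFiniteProjective M) (hNp : DRing.TermwiseFiniteProjective N)
    (h : Nonempty (DRing.toD M ≅ DRing.toD N)) :
    ∃ f : R, f ∉ p ∧ ∃ P Q : DRing.Cx (Localization.Away f),
      ((∃ a' b' : ℤ, DRing.VanishesOutside P a' b') ∧ DRing.TermwiseFiniteFree P ∧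
          (∀ i : ℤ, Module.Free (Localization.Away f) (LinearMap.range (P.d i (i + 1)).hom)) ∧
            Nonempty (Homotopy (𝟙 P) 0)) ∧
      ((∃ a' b' : ℤ, DRing.VanishesOutside Q a' b') ∧ DRing.TermwiseFiniteFree Q ∧
          (∀ i : ℤ, Module.Free (Localization.Away f) (LinearMap.range (Q.d i (i + 1)).hom)) ∧
            Nonempty (Homotopy (𝟙 Q) 0)) ∧
      Nonempty ((((ModuleCat.extendScalars (algebraMap R (Localization.Away f))).mapHomologicalComplex up).obj M) ⊞ P ≅
        (((ModuleCat.extendScalars (algebraMap R (Localization.Away f))).mapHomologicalComplex up).obj N) ⊞ Q) := by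
  obtain ⟨P, Q, hP, hQ, ⟨e⟩⟩ := exists_biprod_iso hM hN hMp hNp h.some
  obtain ⟨aP, bP, habP⟩ := hP.bdd
  obtain ⟨aQ, bQ, habQ⟩ := hQ.bdd
  let s := Finset.Icc (min aP aQ) (max bP bQ)
  obtain ⟨f, hf, hfree⟩ := exists_free p
    (Sum.elim (Sum.elim P.X (bd P)) (Sum.elim Q.X (bd Q))) ((s.disjSum s).disjSum (s.disjSum s))
    (by
      rintro ((i | i) | (i | i)) -
      exacts [hP.proj i, bd_finite_projective hP i, hQ.proj i, bd_finite_projective hQ i])
  have hPf : ∀ i, Module.Free (Localization.Away f) (Localization.Away f ⊗[R] P.X i) ∧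
      Module.Free (Localization.Away f) (Localization.Away f ⊗[R] bd P i) := fun i => by
    by_cases hi : i ∈ s
    · exact ⟨hfree (Sum.inl (Sum.inl i)) (by simp [hi]), hfree (Sum.inl (Sum.inr i)) (by simp [hi])⟩
    · exact free_outside habP (by simp [s] at hi; omega)
  have hQf : ∀ i, Module.Free (Localization.Away f) (Localization.Away f ⊗[R] Q.X i) ∧
      Module.Free (Localization.Away f) (Localization.Away f ⊗[R] bd Q i) := fun i => by
    by_cases hi : i ∈ s
    · exact ⟨hfree (Sum.inr (Sum.inl i)) (by simp [hi]), hfree (Sum.inr (Sum.inr i)) (by simp [hi])⟩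
    · exact free_outside habQ (by simp [s] at hi; omega)
  let G := (ModuleCat.extendScalars (algebraMap R (Localization.Away f))).mapHomologicalComplex up
  have : PreservesBinaryBiproducts G := preservesBinaryBiproducts_of_preservesBiproducts G
  exact ⟨f, hf, G.obj P, G.obj Q, ext_free hP (fun i => (hPf i).1) (fun i => (hPf i).2),
    ext_free hQ (fun i => (hQf i).1) (fun i => (hQf i).2),
    ⟨(G.mapBiprod M P).symm ≪≫ G.mapIso e ≪≫ G.mapBiprod N Q⟩⟩

end Groth.Agent.AwayTrivial
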