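import Groth.Agent.DAlg.LeftDerived
import Groth.Agent.DAlg.Classes
import Mathlib.Algebra.Homology.HomotopyCofiber
import Mathlib.Algebra.Category.ModuleCat.Projective

/-!
Bounded complexes of finite projective modules isomorphic in the derived category differ by
contractible ones.
-/

set_option autoImplicit false
set_option linter.style.haveILetI false

universe u

open CategoryTheory CategoryTheory.Limits CategoryTheory.Pretriangulated HomologicalComplex

attribute [local instance] HasDerivedCategory.standard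

namespace Groth.Agent.AwayTrivial

open Groth.DAlg

variable {R : Type u} [CommRing R]

local notation "up" => ComplexShape.up ℤ

/-- Maps out of K-projective complexes equal in the derived category are homotopic. -/
lemma homotopic_of_Q_eq {P K : DRing.Cx R} [P.IsKProjective] {f g : P ⟶ K}
    (h : DerivedCategory.Q.map f = DerivedCategory.Q.map g) : Nonempty (Homotopy f g) := by
  refine ⟨HomotopyCategory.homotopyOfEq _ _ ((bijective_Qh_map_of_isKProjective P _).1 ?_)⟩
  rw [← cancel_mono ((DerivedCategory.quotientCompQhIso (ModuleCat.{u} R)).hom.app K)]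
  exact ((DerivedCategory.quotientCompQhIso (ModuleCat.{u} R)).hom.naturality f).trans
    ((congrArg (_ ≫ ·) h).trans
      ((DerivedCategory.quotientCompQhIso (ModuleCat.{u} R)).hom.naturality g).symm)

/-- A homotopy retraction of a degreewise split monomorphism can be made a retraction. -/
lemma exists_retraction {M Y : DRing.Cx R} (g : M ⟶ Y) (ψ : Y ⟶ M)
    (k : Homotopy (g ≫ ψ) (𝟙 M)) (r : ∀ p, Y.X p ⟶ M.X p) (hr : ∀ p, g.f p ≫ r p = 𝟙 _) :
    ∃ ψ' : Y ⟶ M, g ≫ ψ' = 𝟙 M := by
  refine ⟨ψ - Homotopy.nullHomotopicMap fun i j => r i ≫ k.hom i j, ?_⟩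
  rw [Preadditive.comp_sub, Homotopy.comp_nullHomotopicMap]
  ext p : 1
  have h : (fun i j => g.f i ≫ r i ≫ k.hom i j) = k.hom := by
    funext i j
    rw [← Category.assoc, hr, Category.id_comp]
  rw [sub_f_apply, h, k.comm p]
  simp [Homotopy.nullHomotopicMap]

/-- Bounded complexes of finite projectives with zero image in the derived category and contractible
ones. -/
structure Trivial (C : DRing.Cx R) : Prop where
  bdd : ∃ a b : ℤ, DRing.VanishesOutside C a b
  proj : DRing.TermwiseFiniteProjective C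
  null : Nonempty (Homotopy (𝟙 C) 0)

lemma isKProjective {C : DRing.Cx R} {a b : ℤ} (hC : DRing.VanishesOutside C a b)
    (hp : DRing.TermwiseFiniteProjective C) : C.IsKProjective :=
  isKProjective_of_bounded (b := b) (fun i hi => hC i (Or.inr hi)) fun i => (hp i).2

lemma Trivial.mk' {C : DRing.Cx R} {a b : ℤ} (hC : DRing.VanishesOutside C a b)
    (hp : DRing.TermwiseFiniteProjective C) (hz : IsZero (DerivedCategory.Q.obj C)) : Trivial C :=
  haveI := isKProjective hC hp
  ⟨⟨a, b, hC⟩, hp, homotopic_of_Q_eq (hz.eq_of_src _ _)⟩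

/-- Isomorphic objects are isomorphic as complexes up to trivial summands. -/
theorem exists_biprod_iso {M N : DRing.Cx R} {a b : ℤ}
    (hM : DRing.VanishesOutside M a b) (hN : DRing.VanishesOutside N a b)
    (hMp : DRing.TermwiseFiniteProjective M) (hNp : DRing.TermwiseFiniteProjective N)
    (e : DRing.toD M ≅ DRing.toD N) :
    ∃ P Q : DRing.Cx R, Trivial P ∧ Trivial Q ∧ Nonempty (M ⊞ P ≅ N ⊞ Q) := by
  obtain ⟨φ, hφ⟩ := exists_map_of_projective (fun i hi => hM i (Or.inr hi)) (fun i => (hMp i).2) e.hom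
  obtain ⟨ψ, hψ⟩ := exists_map_of_projective (fun i hi => hN i (Or.inr hi)) (fun i => (hNp i).2) e.inv
  haveI := isKProjective hM hMp
  let C := CochainComplex.mappingCone (𝟙 M)
  have hC₀ : IsZero (DerivedCategory.Q.obj C) := by
    let T' := DerivedCategory.Q.mapTriangle.obj (CochainComplex.mappingCone.triangle (𝟙 M))
    have hT' : T' ∈ distTriang _ :=
      (DerivedCategory.mem_distTriang_iff _).2 ⟨_, _, 𝟙 M, ⟨Iso.refl _⟩⟩
    exact (Triangle.isZero₃_iff_isIso₁ T' hT').2
      (inferInstanceAs (IsIso (DerivedCategory.Q.map (𝟙 M))))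
  let eC := fun i : ℤ => HomologicalComplex.homotopyCofiber.XIsoBiprod (𝟙 M) i (i + 1) (by simp)
  have hCb : DRing.VanishesOutside C (a - 1) b := fun i hi => by
    refine IsZero.of_iso ?_ (eC i)
    simp only [biprod_isZero_iff]
    exact ⟨hM (i + 1) (by omega), hM i (by omega)⟩
  have hCp : DRing.TermwiseFiniteProjective C := fun i => by
    have := (hMp i).1
    have := (hMp i).2
    have := (hMp (i + 1)).1
    have := (hMp (i + 1)).2
    let e' : C.X i ≃ₗ[R] (M.X (i + 1) × M.X i) :=
      (eC i ≪≫ ModuleCat.biprodIsoProd _ _).toLinearEquiv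
    exact ⟨Module.Finite.equiv e'.symm, Module.Projective.of_equiv e'.symm⟩
  let g : M ⟶ N ⊞ C := biprod.lift φ (CochainComplex.mappingCone.inr (𝟙 M))
  let r : ∀ p, (N ⊞ C).X p ⟶ M.X p := fun p => (biprod.snd : N ⊞ C ⟶ C).f p ≫
    (CochainComplex.mappingCone.snd (𝟙 M)).v p p (add_zero p)
  have hr : ∀ p, g.f p ≫ r p = 𝟙 _ := fun p => by
    rw [← Category.assoc, ← HomologicalComplex.comp_f, biprod.lift_snd]
    simp
  obtain ⟨k⟩ : Nonempty (Homotopy (g ≫ biprod.fst ≫ ψ) (𝟙 M)) := homotopic_of_Q_eq (by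
    rw [← Category.assoc, biprod.lift_fst, Functor.map_comp, hφ, hψ, e.hom_inv_id]
    exact (DerivedCategory.Q.map_id M).symm)
  obtain ⟨ψ', hψ'⟩ := exists_retraction g (biprod.fst ≫ ψ) k r hr
  let S : ShortComplex (DRing.Cx R) := ShortComplex.mk g (cokernel.π g) (cokernel.condition g)
  haveI : Mono g := (SplitMono.mk ψ' hψ').mono
  have hS : S.ShortExact := { exact := ShortComplex.exact_cokernel g }
  let s : S.Splitting := ShortComplex.Splitting.ofExactOfRetraction S hS.exact ψ' hψ' inferInstance
  let eY : N ⊞ C ≅ M ⊞ S.X₃ := s.isoBinaryBiproduct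
  have hYb : DRing.VanishesOutside (N ⊞ C) (a - 1) b := fun i hi => by
    refine IsZero.of_iso ?_ ((eval _ up i).mapBiprod N C)
    simp only [biprod_isZero_iff, eval_obj]
    exact ⟨hN i (by omega), hCb i hi⟩
  have hYp : DRing.TermwiseFiniteProjective (N ⊞ C) := fun i => by
    have := (hNp i).1
    have := (hNp i).2
    have := (hCp i).1
    have := (hCp i).2
    let e' : (N ⊞ C).X i ≃ₗ[R] (N.X i × C.X i) :=
      ((eval _ up i).mapBiprod N C ≪≫ ModuleCat.biprodIsoProd _ _).toLinearEquiv
    exact ⟨Module.Finite.equiv e'.symm, Module.Projective.of_equiv e'.symm⟩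
  have hZb : DRing.VanishesOutside S.X₃ (a - 1) b := fun i hi => by
    exact @IsZero.of_epi _ _ _ _ _ (S.map (eval _ up i)).g (hS.map_of_exact (eval _ up i)).epi_g
      (hYb i hi)
  have hZp : DRing.TermwiseFiniteProjective S.X₃ := fun i => by
    have := (hYp i).1
    have := (hYp i).2
    have hsg : (cokernel.π g).f i ∘ s.s.f i = _root_.id := by
      funext x
      exact ConcreteCategory.congr_hom (congrArg (fun t => Hom.f t i) s.s_g) x
    have h1 : ((cokernel.π g).f i).hom ∘ₗ (s.s.f i).hom = LinearMap.id := LinearMap.ext (congrFun hsg)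
    exact ⟨Module.Finite.of_surjective ((cokernel.π g).f i).hom
        (Function.RightInverse.surjective (congrFun hsg)),
      Module.Projective.of_split _ _ h1⟩
  have hfst : IsIso (DerivedCategory.Q.map (biprod.fst : N ⊞ C ⟶ N)) := by
    refine ⟨DerivedCategory.Q.map biprod.inl, ?_, ?_⟩
    · rw [← Functor.map_comp]
      have : DerivedCategory.Q.map ((biprod.snd : N ⊞ C ⟶ C) ≫ (biprod.inr : C ⟶ N ⊞ C)) = 0 := by
        rw [Functor.map_comp, hC₀.eq_of_tgt (DerivedCategory.Q.map biprod.snd) 0, zero_comp]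
      rw [← CategoryTheory.Functor.map_id DerivedCategory.Q, ← biprod.total, Functor.map_add, this,
        add_zero]
    · rw [← Functor.map_comp, biprod.inl_fst]
      exact CategoryTheory.Functor.map_id _ _
  have hg : IsIso (DerivedCategory.Q.map g) := by
    have : IsIso (DerivedCategory.Q.map g ≫ DerivedCategory.Q.map biprod.fst) := by
      rw [← Functor.map_comp, biprod.lift_fst, hφ]
      exact e.isIso_hom
    exact IsIso.of_isIso_comp_right _ (DerivedCategory.Q.map biprod.fst)
  have hZ₀ : IsZero (DerivedCategory.Q.obj S.X₃) :=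
    (Triangle.isZero₃_iff_isIso₁ _ (DerivedCategory.triangleOfSES_distinguished hS)).2 hg
  exact ⟨S.X₃, C, Trivial.mk' hZb hZp hZ₀, Trivial.mk' hCb hCp hC₀, ⟨eY.symm⟩⟩

end Groth.Agent.AwayTrivial
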